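import Cfsg.Agent.Lib.Spor.LeechUnique.Coords
import Cfsg.Agent.Lib.Spor.GolayAbstract

/-! The binary code of the coordinate lattice is of dimension 12 and minimum weight 8. -/

set_option autoImplicit false

namespace Cfsg.Agent.Spor.LeechUnique

open Finset GolayAbstract

/-- parities -/
def par2 (x : V24) : F := fun i => (x i : ZMod 2)

theorem par2_add (x y : V24) : par2 (x + y) = par2 x + par2 y := funext fun i => by simp [par2]

theorem mem_supp_par {x : V24} {i : Fin 24} : i ∈ supp (par2 x) ↔ x i % 2 = 1 := by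
  rw [supp, mem_filter, par2, Ne, ZMod.intCast_zmod_eq_zero_iff_dvd]
  simp only [mem_univ, true_and]
  omega

theorem sum_sq_mod_four (d : V24) : (∑ i, d i * d i) % 4 = ((supp (par2 d)).card : ℤ) % 4 := by
  have h1 : ∀ i, d i * d i % 4 = if i ∈ supp (par2 d) then 1 else 0 := fun i => by
    simp only [mem_supp_par]
    rcases Int.even_or_odd (d i) with ⟨k, hk⟩ | ⟨k, hk⟩ <;> rw [hk]
    · rw [show (k + k) * (k + k) = 4 * (k * k) by ring, if_neg (by omega)]; omega
    · rw [show (2 * k + 1) * (2 * k + 1) = 4 * (k * k + k) + 1 by ring, if_pos (by omega)]; omega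
  rw [Finset.sum_int_mod, Finset.sum_congr rfl fun i _ => h1 i, Finset.sum_ite_mem, univ_inter]
  simp

variable {M : AddSubgroup V24} (h : MHyp M)

/-- multiples of four with admissible sum -/
theorem MHyp.four_mem (h : MHyp M) {x : V24} (h4 : ∀ i, (4 : ℤ) ∣ x i) (h8 : (8 : ℤ) ∣ ∑ i, x i) :
    x ∈ M := by
  have e : x = ∑ i, (x i / 4) • (Pi.single i 4 - Pi.single 0 4 : V24) +
      ((∑ i, x i) / 8) • (Pi.single 0 8 : V24) := by
    funext k
    simp only [Pi.add_apply, Finset.sum_apply, Pi.smul_apply, Pi.sub_apply, smul_eq_mul, mul_sub,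
      Finset.sum_sub_distrib, Pi.single_apply, mul_ite, mul_zero, Finset.sum_ite_eq, mem_univ, if_true]
    by_cases hk : k = 0
    · subst hk
      simp only [if_true]
      have : ∑ i, x i / 4 * 4 = ∑ i, x i :=
        Finset.sum_congr rfl fun i _ => Int.ediv_mul_cancel (h4 i)
      rw [this, Int.ediv_mul_cancel h8, Int.ediv_mul_cancel (h4 0)]
      ring
    · simp only [if_neg hk, Finset.sum_const_zero, sub_zero, add_zero]
      exact (Int.ediv_mul_cancel (h4 k)).symm
  rw [e]
  exact M.add_mem (sum_mem fun i _ => M.zsmul_mem (h.e44 i 0) _) (M.zsmul_mem (h.e8 0) _)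

theorem MHyp.four_notMem (h : MHyp M) (i : Fin 24) : (Pi.single i 4 : V24) ∉ M := fun hm => by
  have := h.min _ hm (by simp)
  simp [nrm, Pi.single_apply] at this

theorem MHyp.even_sum (h : MHyp M) {x : V24} (hx : x ∈ M) (h4 : ∀ i, (4 : ℤ) ∣ x i) :
    (8 : ℤ) ∣ ∑ i, x i := by
  by_contra h8
  refine h.four_notMem 0 ?_
  have h2 : (4 : ℤ) ∣ ∑ i, x i := Finset.dvd_sum fun i _ => h4 i
  have h3 : x - Pi.single 0 4 ∈ M := h.four_mem (fun i => by
    rw [Pi.sub_apply, Pi.single_apply]
    split_ifs <;> have := h4 i <;> omega) (by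
    simp only [Pi.sub_apply, Finset.sum_sub_distrib, Finset.sum_pi_single', mem_univ, if_true]
    omega)
  have := M.sub_mem hx h3
  simpa using this

variable (M) in
/-- the code as a group -/
def codeGroup : AddSubgroup F where
  carrier := {w | ∃ d : V24, (2 : ℤ) • d ∈ M ∧ par2 d = w}
  zero_mem' := ⟨0, by simp, funext fun i => by simp [par2]⟩
  add_mem' := by
    rintro _ _ ⟨a, ha, rfl⟩ ⟨b, hb, rfl⟩
    exact ⟨a + b, by rw [smul_add]; exact M.add_mem ha hb, par2_add a b⟩
  neg_mem' := by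
    rintro _ ⟨a, ha, rfl⟩
    exact ⟨-a, by rw [smul_neg]; exact M.neg_mem ha, funext fun i => by simp [par2]⟩

variable (M) in
/-- the code -/
def code : Submodule (ZMod 2) F := AddSubgroup.toZModSubmodule 2 (codeGroup M)

theorem mem_code {w : F} : w ∈ code M ↔ ∃ d : V24, (2 : ℤ) • d ∈ M ∧ par2 d = w := Iff.rfl

theorem MHyp.code_four_dvd (h : MHyp M) {w : F} (hw : w ∈ code M) : 4 ∣ (supp w).card := by
  obtain ⟨d, hd, rfl⟩ := hw
  have h1 := h.dvd _ hd
  have h2 := sum_sq_mod_four d
  have h3 : nrm ((2 : ℤ) • d) = 4 * ∑ i, d i * d i := by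
    rw [nrm, Finset.mul_sum]
    exact Finset.sum_congr rfl fun i _ => by simp only [Pi.smul_apply, smul_eq_mul]; ring
  omega

theorem MHyp.code_min (h : MHyp M) {w : F} (hw : w ∈ code M) (hne : w ≠ 0) : 8 ≤ hammingNorm w := by
  rw [norm_eq]
  have h4 := h.code_four_dvd hw
  have h0 : (supp w).card ≠ 0 := fun e => hne (eq_zero_of_supp_empty (card_eq_zero.1 e))
  by_contra hlt
  have hc : (supp w).card = 4 := by omega
  obtain ⟨d, hd, rfl⟩ := hw
  obtain ⟨p, hp⟩ := card_pos.1 (by omega : 0 < (supp (par2 d)).card)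
  have key : ∀ y : V24, (∀ i, y i * y i = if i ∈ supp (par2 d) then 4 else 0) →
      (2 : ℤ) • d - y ∈ M → False := by
    intro y hy hm
    have hyM : y ∈ M := by simpa using M.sub_mem hd hm
    have hn : nrm y = 16 := by
      rw [nrm, Finset.sum_congr rfl fun i _ => hy i, Finset.sum_ite_mem, univ_inter]
      simp [hc]
    have := h.min y hyM fun e => by simp [e, nrm] at hn
    omega
  set y0 : V24 := fun i => if i ∈ supp (par2 d) then 2 else 0 with hy0
  have hz : ∀ i, (4 : ℤ) ∣ ((2 : ℤ) • d - y0) i := fun i => by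
    simp only [hy0, mem_supp_par, Pi.sub_apply, Pi.smul_apply, smul_eq_mul]
    split_ifs <;> omega
  by_cases h8 : (8 : ℤ) ∣ ∑ i, ((2 : ℤ) • d - y0) i
  · refine key y0 (fun i => ?_) (h.four_mem hz h8)
    simp only [hy0]; split_ifs <;> simp
  · refine key (y0 - Pi.single p 4) (fun i => ?_) (h.four_mem (fun i => ?_) ?_)
    · simp only [hy0, Pi.sub_apply, Pi.single_apply]
      by_cases hi : i = p
      · subst hi; rw [if_pos hp, if_pos rfl, if_pos hp]; norm_num
      · rw [if_neg hi]; split_ifs <;> simp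
    · rw [sub_sub_eq_add_sub, Pi.sub_apply, Pi.add_apply, Pi.single_apply]
      have := hz i
      rw [Pi.sub_apply] at this
      split_ifs <;> omega
    · have h2 : (4 : ℤ) ∣ ∑ i, ((2 : ℤ) • d - y0) i := Finset.dvd_sum fun i _ => hz i
      rw [show (2 : ℤ) • d - (y0 - Pi.single p 4) = ((2 : ℤ) • d - y0) + Pi.single p 4 by abel]
      simp only [Pi.add_apply, Finset.sum_add_distrib, Finset.sum_pi_single', mem_univ, if_true]
      omega

theorem MHyp.code_orth (h : MHyp M) {v w : F} (hv : v ∈ code M) (hw : w ∈ code M) :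
    ∑ i, v i * w i = 0 := by
  obtain ⟨a, ha, rfl⟩ := hv
  obtain ⟨b, hb, rfl⟩ := hw
  have h1 := h.dot _ ha _ hb
  have h3 : ∑ i, ((2 : ℤ) • a) i * ((2 : ℤ) • b) i = 4 * ∑ i, a i * b i := by
    rw [Finset.mul_sum]
    exact Finset.sum_congr rfl fun i _ => by simp only [Pi.smul_apply, smul_eq_mul]; ring
  have h4 : ((∑ i, a i * b i : ℤ) : ZMod 2) = 0 := by
    rw [ZMod.intCast_zmod_eq_zero_iff_dvd]; omega
  simpa [par2, Int.cast_sum, Int.cast_mul] using h4

theorem MHyp.code_dim_le (h : MHyp M) : Module.finrank (ZMod 2) (code M) ≤ 12 := by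
  let b : LinearMap.BilinForm (ZMod 2) F := dotForm
  have hb : ∀ v w, b v w = ∑ i, v i * w i := dotForm_apply
  have key : ∀ v : F, (∀ w, b v w = 0) → v = 0 := fun v hv => funext fun i => by
    have h' := hv (Pi.single i 1)
    rw [hb] at h'
    simpa [Pi.single_apply, mul_ite] using h'
  have hsym : ∀ v w, b v w = b w v := fun v w => by
    rw [hb, hb]; exact Finset.sum_congr rfl fun i _ => mul_comm _ _
  have hnd : b.Nondegenerate := ⟨key, fun v hv => key v fun w => by rw [hsym]; exact hv w⟩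
  have hle : code M ≤ b.orthogonal (code M) := fun x hx n hn => (hb n x).trans (h.code_orth hn hx)
  have h1 := LinearMap.BilinForm.finrank_orthogonal hnd (code M)
  have h2 := Submodule.finrank_mono hle
  rw [h1, Module.finrank_fin_fun] at h2
  omega

end Cfsg.Agent.Spor.LeechUnique
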