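import Cfsg.Agent.Lib.Spor.LeechUnique.Frame

/-! Coordinates of the lattice with respect to a frame. -/

set_option autoImplicit false

namespace Cfsg.Agent.Spor.LeechUnique

open Matrix

/-- the sum of the squares -/
def nrm (x : V24) : ℤ := ∑ i, x i * x i

/-- what the coordinate image of the lattice satisfies -/
structure MHyp (M : AddSubgroup V24) : Prop where
  dvd : ∀ x ∈ M, (16 : ℤ) ∣ nrm x
  min : ∀ x ∈ M, x ≠ 0 → 32 ≤ nrm x
  count : {x : V24 | x ∈ M ∧ nrm x = 32}.ncard = 196560
  parity : ∀ x ∈ M, ∀ i j, x i % 2 = x j % 2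
  dot : ∀ x ∈ M, ∀ y ∈ M, (8 : ℤ) ∣ ∑ i, x i * y i
  e8 : ∀ i, (Pi.single i 8 : V24) ∈ M
  e44 : ∀ i j, (Pi.single i 4 - Pi.single j 4 : V24) ∈ M

variable (B : Matrix (Fin 24) (Fin 24) ℤ) (e : Fin 24 → V24)

/-- the coordinates -/
def coordHom : V24 →+ V24 where
  toFun v i := ip B v (e i)
  map_zero' := funext fun i => by simp [ip]
  map_add' u v := funext fun i => ip_add_left B u v (e i)

theorem coordHom_apply (v : V24) (i : Fin 24) : coordHom B e v i = ip B v (e i) := rfl

variable {B} {e} (h : Props B) (he : ∀ i, ip B (e i) (e i) = 8)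
  (ho : ∀ i j, i ≠ j → ip B (e i) (e j) = 0)
include h he ho

theorem nrm_coord (v : V24) : nrm (coordHom B e v) = 8 * ip B v v := by
  have hdep : ¬ LinearIndependent ℤ (Fin.cons v e : Fin 25 → V24) := fun hli => by
    simpa using hli.fintype_card_le_finrank
  obtain ⟨g, hg, hne⟩ := Fintype.not_linearIndependent_iff.1 hdep
  rw [Fin.sum_univ_succ] at hg
  simp only [Fin.cons_zero, Fin.cons_succ] at hg
  have hj : ∀ j, g 0 * coordHom B e v j + 8 * g j.succ = 0 := fun j => by
    have h1 := congrArg (fun u => ip B u (e j)) hg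
    simp only [ip_add_left, ip_smul_left, ip_sum_left] at h1
    rw [Finset.sum_eq_single j (fun i _ hi => by rw [ho i j hi, mul_zero]) (by simp), he j] at h1
    simp [ip] at h1
    simp only [coordHom_apply, ip]
    linarith
  have hc : g 0 ≠ 0 := fun h0 => by
    obtain ⟨i, hi⟩ := hne
    refine hi (Fin.cases h0 (fun j => ?_) i)
    have := hj j
    rw [h0] at this
    omega
  have h1 := congrArg (fun u => ip B v u) hg
  simp only [ip_add_right, ip_smul_right] at h1
  have hs : ip B v (∑ i, g i.succ • e i) = ∑ i, g i.succ * coordHom B e v i := by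
    rw [ip_comm B h.symm, ip_sum_left]
    exact Finset.sum_congr rfl fun i _ => by rw [ip_smul_left, coordHom_apply, ip_comm B h.symm v]
  have h0 : ip B v 0 = 0 := by simp [ip]
  rw [hs, h0] at h1
  refine mul_left_cancel₀ hc ?_
  have h2 : g 0 * nrm (coordHom B e v) = -8 * ∑ i, g i.succ * coordHom B e v i := by
    rw [nrm, Finset.mul_sum, Finset.mul_sum]
    refine Finset.sum_congr rfl fun i _ => ?_
    linear_combination (coordHom B e v i) * hj i
  rw [h2]
  linear_combination 8 * h1 * (-1)

theorem coord_injective : Function.Injective (coordHom B e) := by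
  refine (injective_iff_map_eq_zero _).2 fun v hv => ?_
  by_contra hne
  have h1 := nrm_coord h he ho v
  have h2 := norm_ge_four h hne
  rw [hv] at h1
  simp [nrm] at h1
  omega

theorem dot_coord (u v : V24) :
    ∑ i, coordHom B e u i * coordHom B e v i = 8 * ip B u v := by
  have a := nrm_coord h he ho (u + v)
  rw [map_add, nrm] at a
  simp only [Pi.add_apply, add_mul, mul_add, Finset.sum_add_distrib, ip_add_left, ip_add_right] at a
  have b := nrm_coord h he ho u
  have c := nrm_coord h he ho v
  rw [nrm] at b c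
  simp only [ip_comm B h.symm v u] at a
  simp only [mul_comm (coordHom B e v _) (coordHom B e u _)] at a
  linarith

theorem coord_frame (i : Fin 24) : coordHom B e (e i) = Pi.single i 8 := by
  funext j
  rw [coordHom_apply]
  rcases eq_or_ne i j with rfl | hij
  · simp [he]
  · simp [ho i j hij, Ne.symm hij]

theorem coord_mHyp (hc : ∀ i j, red2 (e i) = red2 (e j)) : MHyp (coordHom B e).range := by
  refine ⟨?_, ?_, ?_, ?_, ?_, ?_, ?_⟩
  · rintro _ ⟨v, rfl⟩
    rw [nrm_coord h he ho]
    have := h.even v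
    omega
  · rintro _ ⟨v, rfl⟩ hne
    rw [nrm_coord h he ho]
    have := norm_ge_four h (x := v) fun e' => hne (by rw [e', map_zero])
    omega
  · have : {x : V24 | x ∈ (coordHom B e).range ∧ nrm x = 32} =
        coordHom B e '' {v | ip B v v = 4} := by
      ext x
      constructor
      · rintro ⟨⟨v, rfl⟩, hx⟩
        rw [nrm_coord h he ho] at hx
        exact ⟨v, by simp; omega, rfl⟩
      · rintro ⟨v, hv, rfl⟩
        exact ⟨⟨v, rfl⟩, by rw [nrm_coord h he ho]; simp only [Set.mem_setOf_eq] at hv; omega⟩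
    rw [this, Set.ncard_image_of_injective _ (coord_injective h he ho)]
    exact h.n4
  · rintro _ ⟨v, rfl⟩ i j
    obtain ⟨z, hz⟩ := exists_half (hc i j)
    have h1 := congrArg (fun u => ip B v u) hz
    simp only [ip_sub_right, ip_smul_right] at h1
    simp only [coordHom_apply]
    omega
  · rintro _ ⟨u, rfl⟩ _ ⟨v, rfl⟩
    rw [dot_coord h he ho]
    exact dvd_mul_right _ _
  · exact fun i => ⟨e i, coord_frame h he ho i⟩
  · intro i j
    obtain ⟨z, hz⟩ := exists_half (hc i j)
    refine ⟨z, funext fun k => ?_⟩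
    have h1 := congrFun (congrArg (coordHom B e) hz) k
    rw [map_sub, map_zsmul, coord_frame h he ho, coord_frame h he ho] at h1
    simp only [Pi.sub_apply, Pi.smul_apply, smul_eq_mul, Pi.single_apply] at h1 ⊢
    split_ifs at h1 ⊢ <;> omega

end Cfsg.Agent.Spor.LeechUnique
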