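import Cfsg.Agent.Lib.Spor.LeechUnique.Code

/-! Counting the shortest vectors: the code has dimension 12 and there is an odd vector. -/

set_option autoImplicit false
set_option maxRecDepth 100000

namespace Cfsg.Agent.Spor.LeechUnique

open Finset GolayAbstract

variable {M : AddSubgroup V24} (h : MHyp M)

theorem sq_le_nrm (x : V24) (i : Fin 24) : x i * x i ≤ nrm x :=
  single_le_sum (f := fun i => x i * x i) (fun j _ => mul_self_nonneg _) (mem_univ i)

/-- vectors with exactly two entries of absolute value four -/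
def twoFours : Finset V24 :=
  (univ.powersetCard 2).biUnion fun s : Finset (Fin 24) =>
    s.powerset.image fun t => fun i => if i ∈ t then 4 else if i ∈ s then -4 else 0

theorem twoFours_card : twoFours.card ≤ 1104 := by
  refine (card_biUnion_le_card_mul _ _ 4 fun s hs => ?_).trans ?_
  · refine card_image_le.trans ?_
    rw [card_powerset, (mem_powersetCard.1 hs).2]; norm_num
  · rw [card_powersetCard, card_univ, Fintype.card_fin]; decide

theorem mem_twoFours {x : V24} (hn : nrm x = 32) (h4 : ∀ i, (4 : ℤ) ∣ x i) : x ∈ twoFours := by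
  classical
  have hv : ∀ i, x i = 4 ∨ x i = -4 ∨ x i = 0 := fun i => by
    obtain ⟨k, hk⟩ := h4 i
    have := sq_le_nrm x i
    rw [hn, hk] at this
    have : -1 ≤ k ∧ k ≤ 1 := ⟨by nlinarith, by nlinarith⟩
    omega
  set s := univ.filter fun i => x i ≠ 0 with hs
  have hsc : s.card = 2 := by
    have h1 : nrm x = 16 * (s.card : ℤ) := by
      have : ∀ i, x i * x i = if i ∈ s then 16 else 0 := fun i => by
        simp only [hs, mem_filter, mem_univ, true_and]
        rcases hv i with e | e | e <;> rw [e] <;> simp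
      rw [nrm, Finset.sum_congr rfl fun i _ => this i, Finset.sum_ite_mem, univ_inter]
      simp [mul_comm]
    omega
  refine mem_biUnion.2 ⟨s, mem_powersetCard.2 ⟨subset_univ _, hsc⟩, mem_image.2
    ⟨univ.filter fun i => x i = 4, mem_powerset.2 fun i hi => ?_, funext fun i => ?_⟩⟩
  · simp only [hs, mem_filter, mem_univ, true_and] at hi ⊢; omega
  · simp only [hs, mem_filter, mem_univ, true_and]
    rcases hv i with e | e | e <;> rw [e] <;> simp

open Classical in
/-- supports of code words of weight eight -/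
noncomputable def eights (C : Submodule (ZMod 2) F) : Finset (Finset (Fin 24)) :=
  (univ.powersetCard 8).filter fun s => ind s ∈ C

theorem eights_card {C : Submodule (ZMod 2) F} (hmin : ∀ w ∈ C, w ≠ 0 → 8 ≤ hammingNorm w) :
    (eights C).card ≤ 759 := by
  classical
  have h1 : ((eights C).biUnion fun s => s.powersetCard 5).card = ∑ s ∈ eights C, (s.powersetCard 5).card := by
    refine card_biUnion fun s hs t ht hne => ?_
    rw [Function.onFun, disjoint_left]
    intro u hu hu'
    rw [mem_powersetCard] at hu hu'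
    simp only [eights, coe_filter, Set.mem_setOf_eq, mem_powersetCard] at hs ht
    have hd : ind s - ind t ≠ 0 := fun e => hne (by rw [← supp_ind s, sub_eq_zero.1 e, supp_ind])
    have h8 := hmin _ (C.sub_mem hs.2 ht.2) hd
    rw [norm_eq] at h8
    have hcs := card_supp_sub (ind s) (ind t)
    rw [supp_ind, supp_ind, hs.1.2, ht.1.2] at hcs
    have := card_le_card (subset_inter hu.1 hu'.1)
    omega
  have h2 : ((eights C).biUnion fun s => s.powersetCard 5).card ≤ 42504 := by
    refine (card_le_card (t := (univ : Finset (Fin 24)).powersetCard 5) fun u hu => ?_).trans ?_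
    · obtain ⟨s, -, hu⟩ := mem_biUnion.1 hu
      exact mem_powersetCard.2 ⟨subset_univ _, (mem_powersetCard.1 hu).2⟩
    · rw [card_powersetCard, card_univ, Fintype.card_fin]; decide
  rw [h1, sum_congr rfl fun s hs => by
    rw [card_powersetCard, (mem_powersetCard.1 (mem_filter.1 hs).1).2], sum_const, smul_eq_mul,
    show Nat.choose 8 5 = 56 by decide] at h2
  omega

include h

theorem eq_of_agree {x y : V24} (hx : x ∈ M) (hy : y ∈ M) (p : Fin 24)
    (he : ∀ i, i ≠ p → x i = y i) (hxp : x p = 2 ∨ x p = -2) (hyp : y p = 2 ∨ y p = -2) : x = y := by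
  by_contra hne
  have hs : x - y = Pi.single p (x p - y p) := funext fun i => by
    rw [Pi.sub_apply, Pi.single_apply]
    split_ifs with hi
    · rw [hi]
    · rw [he i hi, sub_self]
  have hp : x p ≠ y p := fun e => hne (funext fun i => if hi : i = p then hi ▸ e else he i hi)
  have hn : nrm (x - y) = 16 := by
    rw [hs, nrm]
    simp [Pi.single_apply]
    rcases hxp with e | e <;> rcases hyp with e' | e' <;> simp_all
  have := h.min _ (M.sub_mem hx hy) (sub_ne_zero.2 hne)
  omega

theorem odd_shape {x : V24} (hn : nrm x = 32) (hodd : ∀ i, x i % 2 = 1) :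
    ∃ p, (x p = 3 ∨ x p = -3) ∧ ∀ i, i ≠ p → x i = 1 ∨ x i = -1 := by
  clear h
  have h1 : ∀ i, x i = 1 ∨ x i = -1 ∨ x i = 3 ∨ x i = -3 ∨ 25 ≤ x i * x i := fun i => by
    have := hodd i
    by_cases hb : -3 ≤ x i ∧ x i ≤ 3
    · omega
    · right; right; right; right
      rcases le_or_gt (x i) 0 with hl | hl
      · have h5 : x i ≤ -5 := by omega
        nlinarith
      · have h5 : 5 ≤ x i := by omega
        nlinarith
  have hpos : ∀ i, (0 : ℤ) ≤ x i * x i - 1 := fun i => by
    rcases h1 i with e | e | e | e | e <;> first | (rw [e]; norm_num) | omega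
  have hsum : ∑ i, (x i * x i - 1) = 8 := by
    rw [sum_sub_distrib, ← nrm, hn]; simp
  obtain ⟨p, hp⟩ : ∃ p, x p * x p - 1 ≠ 0 := by
    by_contra hne
    push Not at hne
    simp [hne] at hsum
  have hv : ∀ i, x i * x i - 1 = 0 ∧ (x i = 1 ∨ x i = -1) ∨ 8 ≤ x i * x i - 1 := fun i => by
    rcases h1 i with e | e | e | e | e
    · exact Or.inl ⟨by rw [e]; norm_num, Or.inl e⟩
    · exact Or.inl ⟨by rw [e]; norm_num, Or.inr e⟩
    · exact Or.inr (by rw [e]; norm_num)
    · exact Or.inr (by rw [e]; norm_num)
    · exact Or.inr (by omega)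
  have hle := single_le_sum (fun i _ => hpos i) (mem_univ p)
  rw [hsum] at hle
  refine ⟨p, ?_, fun i hi => ?_⟩
  · rcases h1 p with e | e | e | e | e
    · simp [e] at hp
    · simp [e] at hp
    · exact Or.inl e
    · exact Or.inr e
    · omega
  · have h2 := sum_le_sum_of_subset_of_nonneg (subset_univ ({i, p} : Finset (Fin 24)))
      fun j _ _ => hpos j
    rw [sum_pair hi, hsum] at h2
    rcases hv i with ⟨-, h⟩ | h
    · exact h
    · rcases hv p with ⟨h', -⟩ | h'
      · exact absurd h' hp
      · omega

theorem count_bound :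
    196560 ≤ 1104 + 759 * 128 + 24 * Nat.card (code M) ∧
      ((∀ x ∈ M, ∀ i, x i % 2 = 0) → (196560 : ℕ) ≤ 1104 + 759 * 128) := by
  classical
  have hfin : {x : V24 | x ∈ M ∧ nrm x = 32}.Finite :=
    Set.finite_of_ncard_ne_zero (by rw [h.count]; norm_num)
  set S := hfin.toFinset with hS
  have hSc : S.card = 196560 := by rw [hS, ← Set.ncard_eq_toFinset_card _ hfin]; exact h.count
  have mS : ∀ x, x ∈ S ↔ x ∈ M ∧ nrm x = 32 := fun x => by simp [hS]
  set S0 := S.filter fun x => ∀ i, (4 : ℤ) ∣ x i
  set S1 := S.filter fun x => x 0 % 2 = 0 ∧ ¬ ∀ i, (4 : ℤ) ∣ x i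
  set S2 := S.filter fun x => x 0 % 2 = 1
  have hcover : S.card ≤ S0.card + S1.card + S2.card := by
    refine le_trans (card_le_card (t := S0 ∪ S1 ∪ S2) fun x hx => ?_)
      ((card_union_le _ _).trans (Nat.add_le_add_right (card_union_le _ _) _))
    simp only [S0, S1, S2, mem_union, mem_filter]
    by_cases h4 : ∀ i, (4 : ℤ) ∣ x i
    · exact Or.inl (Or.inl ⟨hx, h4⟩)
    · rcases Int.emod_two_eq_zero_or_one (x 0) with e | e
      · exact Or.inl (Or.inr ⟨hx, e, h4⟩)
      · exact Or.inr ⟨hx, e⟩
  have h0 : S0.card ≤ 1104 := (card_le_card fun x hx => by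
    obtain ⟨hx, h4⟩ := mem_filter.1 hx
    exact mem_twoFours ((mS x).1 hx).2 h4).trans twoFours_card
  have hS1 : ∀ x ∈ S1, x ∈ M ∧ ∃ d : V24, x = (2 : ℤ) • d ∧ supp (par2 d) ∈ eights (code M) ∧
      ∀ i, if i ∈ supp (par2 d) then x i = 2 ∨ x i = -2 else x i = 0 := by
    intro x hx
    obtain ⟨hx, hx0, hn4⟩ := mem_filter.1 hx
    obtain ⟨hxM, hxn⟩ := (mS x).1 hx
    refine ⟨hxM, fun i => x i / 2, ?_⟩
    set d : V24 := fun i => x i / 2 with hd
    have hxd : x = (2 : ℤ) • d := funext fun i => by
      have := h.parity x hxM 0 i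
      simp only [hd, Pi.smul_apply, smul_eq_mul]; omega
    have hdd : ∑ i, d i * d i = 8 := by
      have : nrm x = 4 * ∑ i, d i * d i := by
        rw [nrm, Finset.mul_sum]
        exact Finset.sum_congr rfl fun i _ => by rw [hxd]; simp only [Pi.smul_apply, smul_eq_mul]; ring
      omega
    have hw : par2 d ∈ code M := ⟨d, hxd ▸ hxM, rfl⟩
    have hne : par2 d ≠ 0 := fun e => hn4 fun i => by
      have h1 := congrFun e i
      rw [par2, Pi.zero_apply, ZMod.intCast_zmod_eq_zero_iff_dvd] at h1
      rw [hxd, Pi.smul_apply, smul_eq_mul]; omega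
    have h8 := h.code_min hw hne
    rw [norm_eq] at h8
    have hnn : ∀ i, (if i ∈ supp (par2 d) then (1 : ℤ) else 0) ≤ d i * d i := fun i => by
      split_ifs with hi
      · rw [mem_supp_par] at hi
        have hd0 : d i ≠ 0 := by omega
        nlinarith [mul_self_pos.2 hd0]
      · exact mul_self_nonneg _
    have hle : ((supp (par2 d)).card : ℤ) ≤ 8 := by
      have := sum_le_sum (fun i (_ : i ∈ (univ : Finset (Fin 24))) => hnn i)
      rw [hdd, sum_ite_mem, univ_inter] at this
      simpa using this
    have hc : (supp (par2 d)).card = 8 := by omega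
    refine ⟨hxd, mem_filter.2 ⟨mem_powersetCard.2 ⟨subset_univ _, hc⟩, by rwa [ind_supp]⟩, fun i => ?_⟩
    have heq := (sum_eq_sum_iff_of_le fun i _ => hnn i).1
      (by rw [hdd, sum_ite_mem, univ_inter]; simp [hc]) i (mem_univ i)
    rw [hxd, Pi.smul_apply, smul_eq_mul]
    split_ifs at heq ⊢
    · rcases mul_self_eq_one_iff.1 heq.symm with e | e <;> omega
    · simp [mul_self_eq_zero.1 heq.symm]
  have h1 : S1.card ≤ 759 * 128 := by
    let pt : Finset (Fin 24) → Fin 24 := fun s => if hs : s.Nonempty then s.min' hs else 0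
    let g : V24 → Σ _ : Finset (Fin 24), Finset (Fin 24) := fun x =>
      ⟨supp (par2 fun i => x i / 2),
        ((supp (par2 fun i => x i / 2)).erase (pt (supp (par2 fun i => x i / 2)))).filter
          fun i => x i = 2⟩
    refine (card_le_card_of_injOn g (t := (eights (code M)).sigma fun s => (s.erase (pt s)).powerset)
      (fun x hx => ?_) fun x hx y hy hxy => ?_).trans ?_
    · obtain ⟨-, d, rfl, hd, -⟩ := hS1 x hx
      have e : (fun i => ((2 : ℤ) • d) i / 2) = d := funext fun i => by simp
      simp only [g, e, coe_sigma, Set.mem_sigma_iff, mem_coe, mem_powerset]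
      exact ⟨hd, filter_subset _ _⟩
    · obtain ⟨hxM, d, rfl, hd, hdi⟩ := hS1 x hx
      obtain ⟨hyM, d', rfl, hd', hdi'⟩ := hS1 y hy
      have e : (fun i => ((2 : ℤ) • d) i / 2) = d := funext fun i => by simp
      have e' : (fun i => ((2 : ℤ) • d') i / 2) = d' := funext fun i => by simp
      simp only [g, e, e', Sigma.mk.injEq] at hxy
      obtain ⟨hs, ht⟩ := hxy
      rw [hs] at ht hdi hd
      have hne : (supp (par2 d')).Nonempty :=
        card_pos.1 (by rw [(mem_powersetCard.1 (mem_filter.1 hd).1).2]; norm_num)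
      have hp : pt (supp (par2 d')) ∈ supp (par2 d') := by
        simp only [pt, dif_pos hne]; exact min'_mem _ _
      refine eq_of_agree h hxM hyM (pt (supp (par2 d'))) (fun i hi => ?_)
        (by simpa [hp] using hdi (pt (supp (par2 d')))) (by simpa [hp] using hdi' (pt (supp (par2 d'))))
      have h2 := hdi i
      have h2' := hdi' i
      have h3 := Finset.ext_iff.1 (eq_of_heq ht) i
      simp only [mem_filter, mem_erase] at h3
      by_cases hm : i ∈ supp (par2 d')
      · rw [if_pos hm] at h2 h2'
        simp only [hi, hm, ne_eq, not_false_eq_true, true_and] at h3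
        omega
      · rw [if_neg hm] at h2 h2'; rw [h2, h2']
    · rw [card_sigma, sum_congr rfl fun s hs => ?_, sum_const, smul_eq_mul]
      · exact Nat.mul_le_mul_right 128 (eights_card fun w hw => h.code_min hw)
      · have h8 := (mem_powersetCard.1 (mem_filter.1 hs).1).2
        have hmem : pt s ∈ s := by
          simp only [pt, dif_pos (card_pos.1 (by omega : 0 < s.card))]
          exact min'_mem _ _
        rw [card_powerset, card_erase_of_mem hmem, h8]
        norm_num
  refine ⟨?_, fun hev => ?_⟩
  · have h2 : S2.card ≤ 24 * Nat.card (code M) := by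
      rcases S2.eq_empty_or_nonempty with e | ⟨x0, hx0⟩
      · simp [e]
      obtain ⟨hx0S, hx0o⟩ := mem_filter.1 hx0
      let pos : V24 → Fin 24 := fun x => if hx : ∃ p, x p = 3 ∨ x p = -3 then hx.choose else 0
      let g : V24 → Fin 24 × F := fun x => (pos x, par2 fun i => (x i - x0 i) / 2)
      refine (card_le_card_of_injOn g
        (t := (univ : Finset (Fin 24)) ×ˢ univ.filter fun w => w ∈ code M)
        (fun x hx => ?_) fun x hx y hy hxy => ?_).trans ?_
      · obtain ⟨hxS, hxo⟩ := mem_filter.1 hx
        simp only [g, mem_coe, mem_product, mem_univ, true_and, mem_filter]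
        refine ⟨_, ?_, rfl⟩
        have e : (2 : ℤ) • (fun i => (x i - x0 i) / 2) = x - x0 := funext fun i => by
          have := h.parity x ((mS x).1 hxS).1 0 i
          have := h.parity x0 ((mS x0).1 hx0S).1 0 i
          simp only [Pi.smul_apply, smul_eq_mul, Pi.sub_apply]; omega
        rw [e]
        exact M.sub_mem ((mS x).1 hxS).1 ((mS x0).1 hx0S).1
      · obtain ⟨hxS, hxo⟩ := mem_filter.1 hx
        obtain ⟨hyS, hyo⟩ := mem_filter.1 hy
        simp only [g, Prod.mk.injEq] at hxy
        have shp : ∀ z, z ∈ S → z 0 % 2 = 1 →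
            (z (pos z) = 3 ∨ z (pos z) = -3) ∧ ∀ i, i ≠ pos z → z i = 1 ∨ z i = -1 := by
          intro z hz hzo
          obtain ⟨p, hp, hq⟩ := odd_shape h ((mS z).1 hz).2 fun i => by
            rw [← h.parity z ((mS z).1 hz).1 0 i]; exact hzo
          have hex : ∃ p, z p = 3 ∨ z p = -3 := ⟨p, hp⟩
          have hc : hex.choose = p := by
            by_contra hne
            have := hq _ hne
            have := hex.choose_spec
            omega
          simp only [pos, dif_pos hex, hc]
          exact ⟨hp, hq⟩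
        obtain ⟨hp, hq⟩ := shp x hxS hxo
        obtain ⟨hp', hq'⟩ := shp y hyS hyo
        funext i
        have h3 := congrFun hxy.2 i
        simp only [par2, ZMod.intCast_eq_intCast_iff_dvd_sub] at h3
        have := h.parity x ((mS x).1 hxS).1 0 i
        have := h.parity x0 ((mS x0).1 hx0S).1 0 i
        by_cases hi : i = pos x
        · subst hi; rw [← hxy.1] at hp'; omega
        · have := hq i hi
          have := hq' i (hxy.1 ▸ hi)
          omega
      · rw [card_product, card_univ, Fintype.card_fin, Nat.card_eq_fintype_card]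
        simp [Fintype.card_subtype]
    omega
  · have h2 : S2.card = 0 := card_eq_zero.2 (filter_eq_empty_iff.2 fun x hx e => by
      have := hev x ((mS x).1 hx).1 0; omega)
    omega

theorem code_hyp : Hyp (code M) := by
  refine ⟨?_, fun v hv w hw => h.code_orth hv hw, fun w hw => h.code_min hw⟩
  refine le_antisymm h.code_dim_le ?_
  have h1 := (count_bound h).1
  rw [Module.natCard_eq_pow_finrank (K := ZMod 2), Nat.card_zmod] at h1
  by_contra hlt
  have := Nat.pow_le_pow_right (by norm_num : 0 < 2)
    (show Module.finrank (ZMod 2) (code M) ≤ 11 by omega)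
  omega

theorem exists_odd : ∃ x ∈ M, ∀ i, x i % 2 = 1 := by
  by_contra hne
  have := (count_bound h).2 fun x hx i => by
    by_contra e
    exact hne ⟨x, hx, fun j => by rw [h.parity x hx j i]; omega⟩
  omega

end Cfsg.Agent.Spor.LeechUnique
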