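import Cfsg.Agent.Lib.Spor.LeechUnique.Count
import Cfsg.Agent.Lib.Spor.GolayUniqueStd
import Cfsg.Agent.Lib.Spor.Leech.Basic

/-! The coordinate lattice is the Leech lattice up to signs and a numbering of the points. -/

set_option autoImplicit false
set_option maxRecDepth 100000

namespace Cfsg.Agent.Spor.LeechUnique

open Finset GolayAbstract
open Cfsg

variable {M : AddSubgroup V24} (h : MHyp M)
include h

theorem mem_code_of_orth {u : F} (hu : ∀ w ∈ code M, ∑ i, w i * u i = 0) : u ∈ code M := by
  let b : LinearMap.BilinForm (ZMod 2) F := dotForm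
  have hb : ∀ v w, b v w = ∑ i, v i * w i := dotForm_apply
  have key : ∀ v : F, (∀ w, b v w = 0) → v = 0 := fun v hv => funext fun i => by
    have h' := hv (Pi.single i 1)
    rw [hb] at h'
    simpa [Pi.single_apply, mul_ite] using h'
  have hsym : ∀ v w, b v w = b w v := fun v w => by
    rw [hb, hb]; exact Finset.sum_congr rfl fun i _ => mul_comm _ _
  have hnd : b.Nondegenerate := ⟨key, fun v hv => key v fun w => by rw [hsym]; exact hv w⟩
  have hle : code M ≤ b.orthogonal (code M) := fun x hx n hn => (hb n x).trans (h.code_orth hn hx)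
  have h1 := LinearMap.BilinForm.finrank_orthogonal hnd (code M)
  rw [(code_hyp h).hdim, Module.finrank_fin_fun] at h1
  have e := Submodule.eq_of_le_of_finrank_le hle (by rw [h1, (code_hyp h).hdim])
  rw [e]
  exact fun n hn => (hb n u).trans (hu n hn)

theorem sum_class {d d' : V24} (hd : (2 : ℤ) • d ∈ M) (hd' : (2 : ℤ) • d' ∈ M)
    (e : par2 d = par2 d') : (∑ i, d i) % 4 = (∑ i, d' i) % 4 := by
  have h1 := h.even_sum (M.sub_mem hd hd') fun i => by
    have := congrFun e i
    simp only [par2, ZMod.intCast_eq_intCast_iff_dvd_sub] at this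
    simp only [Pi.sub_apply, Pi.smul_apply, smul_eq_mul]
    omega
  simp only [Pi.sub_apply, Pi.smul_apply, smul_eq_mul, sum_sub_distrib, ← Finset.mul_sum] at h1
  omega

theorem sum_even {d : V24} (hd : (2 : ℤ) • d ∈ M) : (∑ i, d i) % 2 = 0 := by
  have h4 := h.code_four_dvd (w := par2 d) ⟨d, hd, rfl⟩
  have h2 : ((∑ i, d i : ℤ) : ZMod 2) = ((supp (par2 d)).card : ZMod 2) := by
    rw [Int.cast_sum]
    have : ∀ i, (d i : ZMod 2) = if i ∈ supp (par2 d) then 1 else 0 := fun i => by
      rcases zcases (par2 d i) with e | e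
      · rw [if_neg (by simp [supp, e])]; exact e
      · rw [if_pos (mem_supp.2 e)]; exact e
    rw [Finset.sum_congr rfl fun i _ => this i, sum_ite_mem, univ_inter]
    simp
  rw [← Int.cast_natCast, ZMod.intCast_eq_intCast_iff_dvd_sub] at h2
  omega

theorem exists_signs : ∃ s : Fin 24 → ℤ, (∀ i, s i = 1 ∨ s i = -1) ∧
    ∀ d : V24, (2 : ℤ) • d ∈ M → (4 : ℤ) ∣ ∑ i, s i * d i := by
  classical
  have hrep : ∀ w : code M, ∃ d : V24, (2 : ℤ) • d ∈ M ∧ par2 d = w := fun w => w.2
  choose r hr using hrep
  have hval : ∀ (w : code M) (d : V24), (2 : ℤ) • d ∈ M → par2 d = w →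
      (((∑ i, r w i) / 2 : ℤ) : ZMod 2) = (((∑ i, d i) / 2 : ℤ) : ZMod 2) := by
    intro w d hd e
    have h1 := sum_class h (hr w).1 hd ((hr w).2.trans e.symm)
    rw [ZMod.intCast_eq_intCast_iff_dvd_sub]
    have := sum_even h hd
    omega
  let ψ : code M →+ ZMod 2 :=
    { toFun := fun w => (((∑ i, r w i) / 2 : ℤ) : ZMod 2)
      map_zero' := by
        rw [hval 0 0 (by simp) (funext fun i => by simp [par2])]; simp
      map_add' := fun v w => by
        rw [hval (v + w) (r v + r w) (by rw [smul_add]; exact M.add_mem (hr v).1 (hr w).1)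
          (by rw [par2_add, (hr v).2, (hr w).2]; rfl)]
        simp only [Pi.add_apply, sum_add_distrib]
        rw [← Int.cast_add, ZMod.intCast_eq_intCast_iff_dvd_sub]
        have := sum_even h (hr v).1
        have := sum_even h (hr w).1
        omega }
  obtain ⟨Ψ, hΨ⟩ := LinearMap.exists_extend (ψ.toZModLinearMap 2)
  refine ⟨fun i => 1 - 2 * ((Ψ (Pi.single i 1)).val : ℤ), fun i => ?_, fun d hd => ?_⟩
  · have := ZMod.val_lt (Ψ (Pi.single i 1))
    dsimp only
    omega
  · have h1 : Ψ (par2 d) = (((∑ i, d i) / 2 : ℤ) : ZMod 2) :=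
      (DFunLike.congr_fun hΨ ⟨par2 d, d, hd, rfl⟩).trans (hval ⟨par2 d, d, hd, rfl⟩ d hd rfl)
    have h2 : Ψ (par2 d) = ((∑ i, ((Ψ (Pi.single i 1)).val : ℤ) * d i : ℤ) : ZMod 2) := by
      conv_lhs => rw [pi_eq_sum_univ' (par2 d)]
      rw [map_sum, Int.cast_sum]
      refine Finset.sum_congr rfl fun i _ => ?_
      rw [map_smul, smul_eq_mul, Int.cast_mul, Int.cast_natCast, ZMod.natCast_val, ZMod.cast_id,
        mul_comm]
      rfl
    rw [h1, ZMod.intCast_eq_intCast_iff_dvd_sub] at h2
    have := sum_even h hd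
    simp only [sub_mul, one_mul, mul_assoc, sum_sub_distrib, ← Finset.mul_sum]
    omega

omit h in
/-- signs and numbering -/
def monomial (s : Fin 24 → ℤ) (e : Fin 24 ≃ GolayPt) : V24 →+ Leech.Vec where
  toFun x p := s (e.symm p) * x (e.symm p)
  map_zero' := funext fun p => by simp
  map_add' x y := funext fun p => by simp [mul_add]

theorem image_eq : ∃ (s : Fin 24 → ℤ) (e : Fin 24 ≃ GolayPt), (∀ i, s i = 1 ∨ s i = -1) ∧
    (∀ x ∈ M, monomial s e x ∈ leechLattice) ∧
    ∀ y ∈ leechLattice, ∃ x ∈ M, monomial s e x = y := by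
  obtain ⟨e, he⟩ := GolayUniq.unique_golay (code_hyp h)
  obtain ⟨s, hs, hsd⟩ := exists_signs h
  have hss : ∀ i, s i * s i = 1 := fun i => by rcases hs i with e | e <;> simp [e]
  have hsum : ∀ x : V24, ∑ p, monomial s e x p = ∑ i, s i * x i := fun x => by
    rw [← e.sum_comp]; simp [monomial]
  have hpar : ∀ a : Leech.Vec, Leech.par a ∈ golayCode ↔ par2 (fun i => a (e i)) ∈ code M :=
    fun a => he _
  have himg : ∀ x ∈ M, Leech.Good (monomial s e x) := by
    intro x hx
    rcases Int.emod_two_eq_zero_or_one (x 0) with hx0 | hx0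
    · set d : V24 := fun i => x i / 2 with hd
      have hxd : x = (2 : ℤ) • d := funext fun i => by
        have := h.parity x hx 0 i
        simp only [hd, Pi.smul_apply, smul_eq_mul]; omega
      have hdM : (2 : ℤ) • d ∈ M := hxd ▸ hx
      refine ⟨0, fun p => s (e.symm p) * d (e.symm p), Or.inl rfl, fun p => ?_, ?_, ?_⟩
      · simp [monomial, hxd]; ring
      · rw [hpar]
        refine ⟨d, hdM, funext fun i => ?_⟩
        rcases hs i with e1 | e1 <;> simp [par2, e1]
      · have h4 := hsd d hdM
        rw [hsum, hxd]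
        simp only [Pi.smul_apply, smul_eq_mul, mul_left_comm _ (2 : ℤ), ← Finset.mul_sum]
        rw [Int.ModEq]
        omega
    · set a : V24 := fun i => (s i * x i - 1) / 2 with ha
      have hxa : ∀ i, s i * x i = 1 + 2 * a i := fun i => by
        have := h.parity x hx 0 i
        simp only [ha]
        rcases hs i with e1 | e1 <;> rw [e1] <;> omega
      have hcode : par2 a ∈ code M := mem_code_of_orth h fun w hw => by
        obtain ⟨d, hd, rfl⟩ := hw
        have h1 := h.dot x hx _ hd
        have h2 : ∑ i, x i * ((2 : ℤ) • d) i = 2 * ∑ i, s i * d i + 4 * ∑ i, a i * (s i * d i) := by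
          rw [Finset.mul_sum, Finset.mul_sum, ← sum_add_distrib]
          refine Finset.sum_congr rfl fun i _ => ?_
          simp only [Pi.smul_apply, smul_eq_mul]
          linear_combination (2 * s i * d i) * hxa i - (2 * x i * d i) * hss i
        have h3 := hsd d hd
        have h4 : ((∑ i, a i * (s i * d i) : ℤ) : ZMod 2) = 0 := by
          rw [ZMod.intCast_zmod_eq_zero_iff_dvd]; omega
        rw [Int.cast_sum] at h4
        rw [← h4]
        refine Finset.sum_congr rfl fun i _ => ?_
        rcases hs i with e1 | e1 <;> simp [par2, e1, mul_comm]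
      refine ⟨1, fun p => a (e.symm p), Or.inr rfl, fun p => ?_, ?_, ?_⟩
      · simpa [monomial] using hxa (e.symm p)
      · rw [hpar]; simpa using hcode
      · have h1 := h.dvd x hx
        have h2 : nrm x = 24 + 4 * ∑ i, a i + 4 * ∑ i, a i * a i := by
          have h24 : (24 : ℤ) = ∑ _i : Fin 24, (1 : ℤ) := by simp
          rw [nrm, h24, Finset.mul_sum, Finset.mul_sum, ← sum_add_distrib, ← sum_add_distrib]
          refine Finset.sum_congr rfl fun i _ => ?_
          linear_combination (s i * x i + 1 + 2 * a i) * hxa i - (x i * x i) * hss i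
        have h3 := sum_sq_mod_four a
        have h4 := h.code_four_dvd hcode
        rw [hsum, Finset.sum_congr rfl fun i _ => hxa i, sum_add_distrib, ← Finset.mul_sum]
        simp only [sum_const, card_univ, Fintype.card_fin, smul_eq_mul, Int.ModEq, nsmul_eq_mul]
        omega
  refine ⟨s, e, hs, fun x hx => Leech.mem_lattice.2 (himg x hx), fun y hy => ?_⟩
  have heven : ∀ y : Leech.Vec, Leech.Good y → y (e 0) % 2 = 0 →
      ∃ x ∈ M, monomial s e x = y := by
    rintro y ⟨m, a, hm, hya, hca, hys⟩ h0
    have hm0 : m = 0 := by have := hya (e 0); omega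
    subst hm0
    obtain ⟨d, hd, hpd⟩ := (hpar a).1 hca
    refine ⟨fun i => s i * y (e i), ?_, funext fun p => ?_⟩
    · set z : V24 := fun i => s i * y (e i) - 2 * d i with hz
      have h4 : ∀ i, (4 : ℤ) ∣ z i := fun i => by
        have h1 := congrFun hpd i
        simp only [par2, ZMod.intCast_eq_intCast_iff_dvd_sub] at h1
        simp only [hz, hya, zero_add]
        rcases hs i with e1 | e1 <;> rw [e1] <;> omega
      have h5 : (8 : ℤ) ∣ ∑ i, s i * z i := by
        have : ∑ i, s i * z i = ∑ i, y (e i) - 2 * ∑ i, s i * d i := by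
          rw [Finset.mul_sum, ← sum_sub_distrib]
          refine Finset.sum_congr rfl fun i _ => ?_
          simp only [hz]
          linear_combination (y (e i)) * hss i
        rw [this, e.sum_comp]
        have := hsd d hd
        rw [Int.ModEq] at hys
        omega
      have h6 : (8 : ℤ) ∣ ∑ i, z i := by
        have h7 : (8 : ℤ) ∣ ∑ i, (z i - s i * z i) := Finset.dvd_sum fun i _ => by
          have := h4 i
          rcases hs i with e1 | e1 <;> rw [e1] <;> omega
        rw [sum_sub_distrib] at h7
        omega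
      have : (fun i => s i * y (e i)) = z + (2 : ℤ) • d := funext fun i => by simp [hz]
      rw [this]
      exact M.add_mem (h.four_mem h4 h6) hd
    · simp [monomial, ← mul_assoc, hss]
  have hy' := Leech.mem_lattice.1 hy
  rcases Int.emod_two_eq_zero_or_one (y (e 0)) with h0 | h0
  · exact heven y hy' h0
  · obtain ⟨x0, hx0, hodd⟩ := exists_odd h
    obtain ⟨x, hx, hxy⟩ := heven (y - monomial s e x0)
      (by rw [sub_eq_add_neg]; exact hy'.add (himg x0 hx0).neg) (by
        have := hodd 0
        simp only [monomial, AddMonoidHom.coe_mk, ZeroHom.coe_mk, Pi.sub_apply,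
          Equiv.symm_apply_apply]
        rcases hs 0 with e1 | e1 <;> rw [e1] <;> omega)
    exact ⟨x + x0, M.add_mem hx hx0, by rw [map_add, hxy, sub_add_cancel]⟩

end Cfsg.Agent.Spor.LeechUnique
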