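import Mathlib

/-! An even lattice of rank 24 without roots and with the vector counts of norms 4, 6, 8 of the
Leech lattice has a frame of 24 orthogonal vectors of norm 8, congruent modulo 2. -/

set_option autoImplicit false

namespace Cfsg.Agent.Spor.LeechUnique

open Matrix

/-- lattice vectors -/
abbrev V24 : Type := Fin 24 → ℤ

variable (B : Matrix (Fin 24) (Fin 24) ℤ)

/-- the bilinear form -/
def ip (x y : V24) : ℤ := x ⬝ᵥ (B *ᵥ y)

theorem ip_comm (hsymm : B.IsSymm) (x y : V24) : ip B x y = ip B y x := by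
  rw [ip, ip, dotProduct_mulVec, ← mulVec_transpose, hsymm.eq, dotProduct_comm]

theorem ip_add_left (x y z : V24) : ip B (x + y) z = ip B x z + ip B y z := add_dotProduct _ _ _

theorem ip_add_right (x y z : V24) : ip B x (y + z) = ip B x y + ip B x z := by
  rw [ip, ip, ip, mulVec_add, dotProduct_add]

theorem ip_smul_left (c : ℤ) (x z : V24) : ip B (c • x) z = c * ip B x z := by
  rw [ip, ip, smul_dotProduct, smul_eq_mul]

theorem ip_smul_right (c : ℤ) (x z : V24) : ip B x (c • z) = c * ip B x z := by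
  rw [ip, ip, mulVec_smul, dotProduct_smul, smul_eq_mul]

theorem ip_sub_left (x y z : V24) : ip B (x - y) z = ip B x z - ip B y z := sub_dotProduct _ _ _

theorem ip_sub_right (x y z : V24) : ip B x (y - z) = ip B x y - ip B x z := by
  rw [ip, ip, ip, mulVec_sub, dotProduct_sub]

theorem ip_sum_left {ι : Type*} (s : Finset ι) (f : ι → V24) (z : V24) :
    ip B (∑ i ∈ s, f i) z = ∑ i ∈ s, ip B (f i) z := sum_dotProduct _ _ _

theorem ip_neg_left (x z : V24) : ip B (-x) z = -ip B x z := neg_dotProduct _ _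

theorem ip_neg_neg (x : V24) : ip B (-x) (-x) = ip B x x := by
  simp [ip, mulVec_neg]

/-- the hypotheses -/
structure Props : Prop where
  symm : B.IsSymm
  pos : ∀ x : V24, x ≠ 0 → 0 < ip B x x
  even : ∀ x : V24, (2 : ℤ) ∣ ip B x x
  noroot : ∀ x : V24, ip B x x ≠ 2
  n4 : {x : V24 | ip B x x = 4}.ncard = 196560
  n6 : {x : V24 | ip B x x = 6}.ncard = 16773120
  n8 : {x : V24 | ip B x x = 8}.ncard = 398034000

variable {B} (h : Props B)
include h

theorem norm_ge_four {x : V24} (hx : x ≠ 0) : 4 ≤ ip B x x := by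
  have h1 := h.pos x hx
  have h2 := h.even x
  have h3 := h.noroot x
  omega

omit h in
theorem finite_of_count {k : ℤ} {n : ℕ} (hn : {x : V24 | ip B x x = k}.ncard = n) (hn0 : n ≠ 0) :
    {x : V24 | ip B x x = k}.Finite := Set.finite_of_ncard_ne_zero (hn ▸ hn0)

/-- reduction modulo 2 -/
def red2 (x : V24) : Fin 24 → ZMod 2 := fun i => (x i : ZMod 2)

omit h in
theorem exists_half {x y : V24} (e : red2 x = red2 y) : ∃ z : V24, x - y = (2 : ℤ) • z := by
  refine ⟨fun i => (x i - y i) / 2, funext fun i => ?_⟩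
  have := (ZMod.intCast_eq_intCast_iff_dvd_sub (y i) (x i) 2).1 (congrFun e.symm i)
  simp only [Pi.sub_apply, Pi.smul_apply, smul_eq_mul]
  omega

omit h in
theorem red2_neg (x : V24) : red2 (-x) = red2 x := funext fun i => by simp [red2]

theorem congr_short {x y : V24} (hx : ip B x x ≤ 8) (hy : ip B y y ≤ 8) (e : red2 x = red2 y)
    (h1 : x ≠ y) (h2 : x ≠ -y) : ip B x x = 8 ∧ ip B y y = 8 ∧ ip B x y = 0 := by
  obtain ⟨z, hz⟩ := exists_half e
  obtain ⟨w, hw⟩ := exists_half (e.trans (red2_neg y).symm)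
  rw [sub_neg_eq_add] at hw
  have hz0 : z ≠ 0 := by rintro rfl; rw [smul_zero, sub_eq_zero] at hz; exact h1 hz
  have hw0 : w ≠ 0 := by rintro rfl; rw [smul_zero, add_eq_zero_iff_eq_neg] at hw; exact h2 hw
  have a := norm_ge_four h hz0
  have b := norm_ge_four h hw0
  have e1 := congrArg (fun u => ip B u u) hz
  have e2 := congrArg (fun u => ip B u u) hw
  simp only [ip_sub_left, ip_sub_right, ip_add_left, ip_add_right, ip_smul_left, ip_smul_right,
    ip_comm B h.symm y x] at e1 e2
  omega

theorem red2_ne_zero {x : V24} (hx : x ≠ 0) (hn : ip B x x ≤ 8) : red2 x ≠ 0 := by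
  intro e
  obtain ⟨z, hz⟩ := exists_half (y := 0) (e.trans (funext fun i => by simp [red2]))
  rw [sub_zero] at hz
  have hz0 : z ≠ 0 := by rintro rfl; exact hx (by rw [hz, smul_zero])
  have := norm_ge_four h hz0
  rw [hz, ip_smul_left, ip_smul_right] at hn
  omega

theorem orth_card_le (T : Finset V24) (h8 : ∀ x ∈ T, ip B x x = 8)
    (horth : ∀ x ∈ T, ∀ y ∈ T, x ≠ y → ip B x y = 0) :
    T.card ≤ 24 ∧ LinearIndependent ℤ (fun x : T => (x : V24)) := by
  have hli : LinearIndependent ℤ (fun x : T => (x : V24)) := by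
    rw [Fintype.linearIndependent_iff]
    intro g hg i
    have h1 := congrArg (fun u => ip B u (i : V24)) hg
    simp only [ip_sum_left, ip_smul_left] at h1
    rw [Finset.sum_eq_single i (fun j _ hj => by
      rw [horth _ j.2 _ i.2 (fun e => hj (Subtype.ext e)), mul_zero]) (by simp), h8 _ i.2] at h1
    simp [ip] at h1
    exact h1
  refine ⟨?_, hli⟩
  have := hli.fintype_card_le_finrank
  simpa using this

theorem exists_frame : ∃ e : Fin 24 → V24, (∀ i, ip B (e i) (e i) = 8) ∧
    (∀ i j, i ≠ j → ip B (e i) (e j) = 0) ∧ ∀ i j, red2 (e i) = red2 (e j) := by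
  classical
  set S4 := (finite_of_count h.n4 (by norm_num)).toFinset with hS4
  set S6 := (finite_of_count h.n6 (by norm_num)).toFinset with hS6
  set S8 := (finite_of_count h.n8 (by norm_num)).toFinset with hS8
  have m4 : ∀ x, x ∈ S4 ↔ ip B x x = 4 := fun x => by simp [hS4]
  have m6 : ∀ x, x ∈ S6 ↔ ip B x x = 6 := fun x => by simp [hS6]
  have m8 : ∀ x, x ∈ S8 ↔ ip B x x = 8 := fun x => by simp [hS8]
  have c4 : S4.card = 196560 := by rw [hS4, ← Set.ncard_eq_toFinset_card _ (finite_of_count h.n4 (by norm_num))]; exact h.n4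
  have c6 : S6.card = 16773120 := by rw [hS6, ← Set.ncard_eq_toFinset_card _ (finite_of_count h.n6 (by norm_num))]; exact h.n6
  have c8 : S8.card = 398034000 := by rw [hS8, ← Set.ncard_eq_toFinset_card _ (finite_of_count h.n8 (by norm_num))]; exact h.n8
  set A := (S4 ∪ S6).image red2
  have hA : (S4 ∪ S6).card ≤ 2 * A.card := by
    refine Finset.card_le_mul_card_image _ 2 fun q hq => ?_
    obtain ⟨x, hx, rfl⟩ := Finset.mem_image.1 hq
    refine (Finset.card_le_card (t := {x, -x}) fun y hy => ?_).trans Finset.card_le_two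
    obtain ⟨hy, e⟩ := Finset.mem_filter.1 hy
    rw [Finset.mem_insert, Finset.mem_singleton]
    by_contra hne
    rw [not_or] at hne
    simp only [Finset.mem_union, m4, m6] at hx hy
    have := congr_short h (by omega) (by omega) e hne.1 hne.2
    omega
  have hdis : Disjoint A (S8.image red2) := Finset.disjoint_left.2 fun q hq hq' => by
    obtain ⟨x, hx, rfl⟩ := Finset.mem_image.1 hq
    obtain ⟨y, hy, e⟩ := Finset.mem_image.1 hq'
    rw [m8] at hy
    simp only [Finset.mem_union, m4, m6] at hx
    by_cases h1 : x = y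
    · subst h1; omega
    by_cases h2 : x = -y
    · subst h2; rw [ip_neg_neg] at hx; omega
    have := congr_short h (by omega) (by omega) e.symm h1 h2
    omega
  have hsub : A ∪ S8.image red2 ⊆ Finset.univ.erase 0 := fun q hq => by
    refine Finset.mem_erase.2 ⟨?_, Finset.mem_univ _⟩
    simp only [Finset.mem_union, A, Finset.mem_image, m4, m6, m8] at hq
    have key : ∀ x : V24, 0 < ip B x x → x ≠ 0 := fun x hx e => by simp [e, ip] at hx
    rcases hq with ⟨x, hx, rfl⟩ | ⟨x, hx, rfl⟩ <;>
      exact red2_ne_zero h (key x (by omega)) (by omega)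
  have hu : (S4 ∪ S6).card = 196560 + 16773120 := by
    rw [Finset.card_union_of_disjoint (Finset.disjoint_left.2 fun x hx hx' => by
      rw [m4] at hx; rw [m6] at hx'; omega), c4, c6]
  have hle := Finset.card_le_card hsub
  rw [Finset.card_union_of_disjoint hdis, Finset.card_erase_of_mem (Finset.mem_univ _),
    Finset.card_univ, Fintype.card_fun, ZMod.card, Fintype.card_fin] at hle
  obtain ⟨q, hq, hq48⟩ : ∃ q ∈ S8.image red2, 48 ≤ (S8.filter fun x => red2 x = q).card := by
    by_contra hne
    push Not at hne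
    have := Finset.card_le_mul_card_image S8 47 fun q hq => Nat.le_of_lt_succ (hne q hq)
    norm_num at hle
    omega
  set F := S8.filter fun x => red2 x = q with hF
  set sel : V24 → V24 := fun x => if toLex x ≤ toLex (-x) then x else -x with hsel
  have hsel' : ∀ x, sel x = x ∨ sel x = -x := fun x => by
    simp only [hsel]; split_ifs <;> simp
  set T := F.image sel with hT
  have hTF : ∀ t ∈ T, ip B t t = 8 ∧ red2 t = q := fun t ht => by
    obtain ⟨x, hx, rfl⟩ := Finset.mem_image.1 ht
    obtain ⟨hx, hxq⟩ := Finset.mem_filter.1 hx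
    rcases hsel' x with e | e <;> rw [e]
    · exact ⟨(m8 x).1 hx, hxq⟩
    · exact ⟨(ip_neg_neg B x).trans ((m8 x).1 hx), (red2_neg x).trans hxq⟩
  have hmin : ∀ t ∈ T, toLex t ≤ toLex (-t) := fun t ht => by
    obtain ⟨x, -, rfl⟩ := Finset.mem_image.1 ht
    simp only [hsel]
    split_ifs with hh
    · exact hh
    · rw [neg_neg]; exact le_of_lt (not_le.1 hh)
  have horth : ∀ s ∈ T, ∀ t ∈ T, s ≠ t → ip B s t = 0 := fun s hs t ht hne => by
    refine (congr_short h (le_of_eq (hTF s hs).1) (le_of_eq (hTF t ht).1)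
      ((hTF s hs).2.trans (hTF t ht).2.symm) hne fun e => hne ?_).2.2
    have a := hmin s hs
    have b := hmin t ht
    rw [e, neg_neg] at a
    have h3 : toLex (-t) = toLex t := le_antisymm a b
    rw [e]
    exact toLex.injective h3
  have hF2 : F.card ≤ 2 * T.card := by
    refine Finset.card_le_mul_card_image _ 2 fun t _ => ?_
    refine (Finset.card_le_card (t := {t, -t}) fun y hy => ?_).trans Finset.card_le_two
    obtain ⟨-, e⟩ := Finset.mem_filter.1 hy
    rw [Finset.mem_insert, Finset.mem_singleton, ← e]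
    rcases hsel' y with e' | e' <;> rw [e'] <;> simp
  obtain ⟨hT24, -⟩ := orth_card_le h T (fun t ht => (hTF t ht).1) horth
  have hcard : Fintype.card T = 24 := by rw [Fintype.card_coe]; omega
  let f := (Fintype.equivFinOfCardEq hcard).symm
  exact ⟨fun i => f i, fun i => (hTF _ (f i).2).1,
    fun i j hij => horth _ (f i).2 _ (f j).2 fun e => hij (f.injective (Subtype.ext e)),
    fun i j => (hTF _ (f i).2).2.trans (hTF _ (f j).2).2.symm⟩

end Cfsg.Agent.Spor.LeechUnique
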